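import Groth.Agent.RamSam.Core
import Groth.Agent.RamSam.Normal
import Groth.Agent.LefEssSurj.PowerSeries
import Groth.Agent.GRingCpl.FSFlat
import Groth.Agent.GeomProp.PiReduced

/-!
Purity for adically formally smooth local algebras: a formally smooth local algebra with non-artinian
closed fibre, residue extension of finite radicial multiplicity and depth at least three is pure.
-/

set_option autoImplicit false
set_option linter.style.haveILetI false
set_option maxHeartbeats 1000000
set_option backward.isDefEq.respectTransparency false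
set_option backward.isDefEq.respectTransparency.types false
universe u

open IsLocalRing TensorProduct

noncomputable section

namespace Groth.Agent.PurFS

/-- Power series over a complete local ring are pure when their depth is at least three. -/
theorem purityHolds_mvPowerSeries {C : Type u} [CommRing C] [IsLocalRing C] [IsNoetherianRing C] {n : ℕ} (hn : 1 ≤ n)
    [IsNoetherianRing (MvPowerSeries (Fin n) C)]
    (hd : (3 : ℕ∞) ≤ LocCoh.depth (MvPowerSeries (Fin n) C) (MvPowerSeries (Fin n) C)) :
    FEt.PurityHolds (MvPowerSeries (Fin n) C) := by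
  rcases Nat.lt_or_ge n 2 with h | h
  · obtain rfl : n = 1 := by omega
    refine LefEssSurj.purityHolds_powerSeries_one C ?_
    let X := MvPowerSeries (Fin 1) C
    let T : X := MvPowerSeries.X 0
    have hker : RingHom.ker (MvPowerSeries.constantCoeff : X →+* C) = Ideal.span {T} := by
      refine le_antisymm (fun f hf => ?_) ((Ideal.span_singleton_le_iff_mem _).2
        (RingHom.mem_ker.2 (MvPowerSeries.constantCoeff_X (0 : Fin 1))))
      have h0 := ArtPow.sub_C_constantCoeff_mem f
      rw [RingHom.mem_ker.mp hf, map_zero, sub_zero, Set.range_unique] at h0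
      simpa [T] using h0
    let e : (X ⧸ Ideal.span {T}) ≃+* C := (Ideal.quotEquivOfEq hker.symm).trans
      (RingHom.quotientKerEquivOfSurjective (f := (MvPowerSeries.constantCoeff : X →+* C))
        fun c => ⟨MvPowerSeries.C c, MvPowerSeries.constantCoeff_C c⟩)
    haveI : IsLocalRing (X ⧸ Ideal.span {T}) := e.symm.isLocalRing
    have hT : T ∈ maximalIdeal X := (mem_maximalIdeal _).2 fun hu => by
      have h0 := hu.map (MvPowerSeries.constantCoeff : X →+* C)
      rw [show MvPowerSeries.constantCoeff T = 0 from MvPowerSeries.constantCoeff_X (0 : Fin 1)] at h0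
      exact not_isUnit_zero h0
    have hreg : IsSMulRegular X T := fun f g hfg => by
      refine MvPowerSeries.ext fun d => ?_
      have h := congrArg (MvPowerSeries.coeff (Finsupp.single 0 1 + d)) hfg
      simp only [T, smul_eq_mul, MvPowerSeries.X_def] at h
      erw [MvPowerSeries.coeff_add_monomial_mul, MvPowerSeries.coeff_add_monomial_mul, one_mul, one_mul] at h
      exact h
    have hIM : maximalIdeal X • (⊤ : Submodule X X) ≠ ⊤ :=
      (Submodule.top_ne_ideal_smul_of_le_jacobson_annihilator (maximalIdeal_le_jacobson _)).symm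
    have h1 := Groth.Agent.S0320.result X (maximalIdeal X) X hIM T hT hreg
    let g : QuotSMulTop T X ≃ₗ[X] X ⧸ Ideal.span {T} :=
      Submodule.quotEquivOfEq _ _ (by rw [← Submodule.ideal_span_singleton_smul, smul_eq_mul, Ideal.mul_top])
    have h2 : LocCoh.depth X (QuotSMulTop T X) = LocCoh.depth X (X ⧸ Ideal.span {T}) := LocH.idealDepth_congr g _
    change LocCoh.depth X (QuotSMulTop T X) + 1 = LocCoh.depth X X at h1
    rw [← h1, h2, ← FlatDepth.depth_quotient_ring (Ideal.span {T}) (X ⧸ Ideal.span {T}),
      FlatDepth.depth_ringEquiv e, show (3 : ℕ∞) = 2 + 1 from rfl] at hd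
    exact (ENat.addLECancellable_of_ne_top ENat.one_ne_top).add_le_add_iff_right.1 hd
  · exact LefEssSurj.purityHolds_powerSeries_ge_two C n h

/-- **Purity for formally smooth local algebras.** -/
theorem purityHolds_of_formallySmoothAdic {A B : Type u} [CommRing A] [IsLocalRing A] [IsNoetherianRing A]
    [CommRing B] [IsLocalRing B] [IsNoetherianRing B] [Algebra A B] [IsLocalHom (algebraMap A B)]
    (hfs : EGA41.IsFormallySmoothAdic A (maximalIdeal A) B (maximalIdeal B))
    (hfib : ¬ maximalIdeal B ≤ (maximalIdeal A).map (algebraMap A B))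
    (hdepth : (3 : ℕ∞) ≤ LocCoh.depth B B)
    (hres : ∃ (k' : Type u) (_ : Field k') (_ : Algebra (ResidueField A) k'),
      Module.Finite (ResidueField A) k' ∧ IsPurelyInseparable (ResidueField A) k' ∧
      Algebra.IsGeometricallyReduced k'
        ((k' ⊗[ResidueField A] ResidueField B) ⧸ nilradical (k' ⊗[ResidueField A] ResidueField B))) :
    FEt.PurityHolds B := by
  obtain ⟨k', _, _, hfin, hins, hgr⟩ := hres
  haveI := hfin
  haveI := hins
  obtain ⟨A', B', _, _, _, _, _, _, _, _, _, _, hc, hfs', hgr', hflat, hrad, hle, -⟩ :=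
    RamSam.exists_completion_model hfs k' hgr
  haveI := hc
  haveI := hflat
  haveI : Module.FaithfullyFlat B B' := Module.FaithfullyFlat.of_flat_of_isLocalHom
  obtain ⟨C, _, _, _, hCc, n, e, he, -⟩ := RamSam.exists_mvPowerSeries_model hfs' hgr'
  haveI := hCc
  haveI : IsNoetherianRing (MvPowerSeries (Fin n) C) := isNoetherianRing_of_ringEquiv B' e.symm
  have hn : 1 ≤ n := by
    by_contra hn
    obtain rfl : n = 0 := by omega
    refine hfib fun b hb => ?_
    have hC : ∀ f : MvPowerSeries (Fin 0) C, f = MvPowerSeries.C (MvPowerSeries.constantCoeff f) := fun f =>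
      MvPowerSeries.ext fun d => by
        obtain rfl : d = 0 := Subsingleton.elim _ _
        simp
    have hmax : maximalIdeal B' ≤ (maximalIdeal A').map (algebraMap A' B') := by
      rw [← he]
      intro y hy
      have h1 : e.symm y = MvPowerSeries.C (MvPowerSeries.constantCoeff (e.symm y)) := hC _
      have h2 : MvPowerSeries.constantCoeff (e.symm y) ∈ maximalIdeal C := by
        refine (mem_maximalIdeal _).2 fun hu => (mem_maximalIdeal y).1 hy ?_
        have h3 : IsUnit (e.symm y) := h1 ▸ hu.map (MvPowerSeries.C : C →+* MvPowerSeries (Fin 0) C)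
        simpa using h3.map e
      rw [← e.apply_symm_apply y]
      refine Ideal.mem_map_of_mem e.toRingHom ?_
      rw [h1]
      exact Ideal.mem_map_of_mem _ h2
    rw [← Ideal.comap_map_eq_self_of_faithfullyFlat (B := B') ((maximalIdeal A).map (algebraMap A B)), Ideal.mem_comap]
    exact hle (hmax (map_nonunit (algebraMap B B') b hb))
  refine LefEssSurj.purityHolds_of_flat (algebraMap B B') (RingHom.flat_algebraMap_iff.2 hflat) hrad
    ((show (2 : ℕ∞) ≤ 3 by norm_num).trans hdepth) (LefEssSurj.purityHolds_congr e.symm (purityHolds_mvPowerSeries hn ?_))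
  rw [FlatDepth.depth_ringEquiv e]
  exact hdepth.trans RamSam.depth_le_of_flat_local

/-- **Purity for formally smooth local algebras over a base of depth two**, finitely generated residue extension. -/
theorem depth_purity_of_adicFormallySmooth {A B : Type u} [CommRing A] [IsLocalRing A] [IsNoetherianRing A]
    [CommRing B] [IsLocalRing B] [IsNoetherianRing B] [Algebra A B] [IsLocalHom (algebraMap A B)]
    [Algebra.EssFiniteType (ResidueField A) (ResidueField B)]
    (hfs : CAlgX.IsAdicFormallySmooth A B (maximalIdeal B)) (hA : (2 : ℕ∞) ≤ LocCoh.depth A A)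
    [IsRegularLocalRing (B ⧸ (maximalIdeal A).map (algebraMap A B))]
    (hdim : (1 : WithBot ℕ∞) ≤ ringKrullDim (B ⧸ (maximalIdeal A).map (algebraMap A B))) :
    (3 : ℕ∞) ≤ LocCoh.depth B B ∧ FEt.PurityHolds B := by
  haveI := GRingCpl.flat_of_adicFormallySmooth hfs
  let T := B ⧸ (maximalIdeal A).map (algebraMap A B)
  have hCM := CMFlat.isCohenMacaulayLocalRing_of_isRegularLocalRing T
  haveI := hCM
  have h1 : (1 : ℕ∞) ≤ LocCoh.depth T T := by
    have := hCM.supportDim_eq_depth
    rw [Module.supportDim_self_eq_ringKrullDim] at this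
    rw [this] at hdim
    exact WithBot.coe_le_coe.1 hdim
  have h3 : (3 : ℕ∞) ≤ LocCoh.depth B B := (RamSam.depth_ge_add_one (R := A) (S := B) hA h1).trans' (le_of_eq rfl)
  refine ⟨h3, purityHolds_of_formallySmoothAdic (A := A) (B := B) ?_ ?_ h3 ?_⟩
  · exact fun C _ _ J hJ _ u hu => (S4537.result _).mp hfs C J hJ ⟨1, by rw [pow_one, Ideal.map_bot]⟩ u hu
  · intro hle
    haveI : Subsingleton (PrimeSpectrum T) := ⟨fun p q => by
      have key : ∀ p : PrimeSpectrum T, p.asIdeal.comap (Ideal.Quotient.mk _) = maximalIdeal B := fun p =>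
        ((maximalIdeal.isMaximal B).eq_of_le (Ideal.comap_ne_top _ p.2.ne_top) (hle.trans fun x hx => by
          rw [Ideal.mem_comap, Ideal.Quotient.eq_zero_iff_mem.2 hx]
          exact zero_mem _)).symm
      exact PrimeSpectrum.ext (Ideal.comap_injective_of_surjective _ Ideal.Quotient.mk_surjective
        ((key p).trans (key q).symm))⟩
    have h0 : ringKrullDim T ≤ 0 := Order.krullDim_nonpos_of_subsingleton
    exact absurd (hdim.trans h0) (by norm_num)
  · obtain ⟨k', i1, i2, h1, h2, h4, -⟩ := GeomProp.exists_field (ResidueField A) (ResidueField B)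
    exact ⟨k', i1, i2, h1, h2, h4⟩

end Groth.Agent.PurFS
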