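import Groth.Agent.PurFS.Local
import Groth.Agent.GeomProp.SmoothLocal
import Groth.Agent.GeomProp.SmoothCrit
import Groth.Agent.CMFlat.Scheme
import Groth.Agent.PurFib.Noeth

/-!
Purity at points of smooth schemes over a base of depth two, away from the generic points of the fibres.
-/

set_option autoImplicit false
set_option linter.style.haveILetI false
set_option maxHeartbeats 1000000
set_option backward.isDefEq.respectTransparency false
universe u

open IsLocalRing AlgebraicGeometry CategoryTheory

noncomputable section

namespace Groth.Agent.PurFS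

/-- An adically formally smooth test for formally smooth algebras. -/
theorem isAdicFormallySmooth_of_formallySmooth (R S : Type u) [CommRing R] [CommRing S] [Algebra R S]
    [Algebra.FormallySmooth R S] (I : Ideal S) : CAlgX.IsAdicFormallySmooth R S I :=
  fun C _ _ J hJ ψ _ => ⟨Algebra.FormallySmooth.lift J ⟨2, hJ⟩ ψ, Algebra.FormallySmooth.comp_lift J ⟨2, hJ⟩ ψ⟩

variable (A B : Type u) [CommRing A] [CommRing B] [Algebra A B] [Algebra.Smooth A B] [IsNoetherianRing A]

/-- Purity for the local rings of smooth algebras over points of depth two. -/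
theorem depth_purity_atPrime (q : Ideal B) [q.IsPrime]
    (hA : (2 : ℕ∞) ≤ LocCoh.depth (Localization.AtPrime (q.comap (algebraMap A B)))
      (Localization.AtPrime (q.comap (algebraMap A B))))
    (hdim : (1 : WithBot ℕ∞) ≤ ringKrullDim (Localization.AtPrime q ⧸
      (q.comap (algebraMap A B)).map (algebraMap A (Localization.AtPrime q)))) :
    (3 : ℕ∞) ≤ LocCoh.depth (Localization.AtPrime q) (Localization.AtPrime q) ∧
      FEt.PurityHolds (Localization.AtPrime q) := by
  let p := q.comap (algebraMap A B)
  let Ap := Localization.AtPrime p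
  let Bq := Localization.AtPrime q
  haveI : IsNoetherianRing B := Algebra.FiniteType.isNoetherianRing A B
  letI : Algebra Ap Bq := (Localization.localRingHom p q (algebraMap A B) rfl).toAlgebra
  haveI : IsLocalHom (algebraMap Ap Bq) := Localization.isLocalHom_localRingHom _ _ _ _
  haveI : IsScalarTower A Ap Bq := IsScalarTower.of_algebraMap_eq fun a => by
    show _ = Localization.localRingHom p q (algebraMap A B) rfl (algebraMap A Ap a)
    rw [Localization.localRingHom_to_map, ← IsScalarTower.algebraMap_apply]
  haveI : Algebra.FormallySmooth B Bq := Algebra.FormallySmooth.of_isLocalization q.primeCompl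
  haveI : Algebra.FormallySmooth A Bq := Algebra.FormallySmooth.comp A B Bq
  haveI : Algebra.FormallyUnramified A Ap := Algebra.FormallyUnramified.of_isLocalization p.primeCompl
  haveI : Algebra.FormallySmooth Ap Bq := Algebra.FormallySmooth.of_restrictScalars A Ap Bq
  have hI : (maximalIdeal Ap).map (algebraMap Ap Bq) = p.map (algebraMap A Bq) := by
    rw [← Localization.AtPrime.map_eq_maximalIdeal, Ideal.map_map, ← IsScalarTower.algebraMap_eq]
  haveI := GeomProp.isRegularLocalRing_fibLocRing_of_smooth A B q
  haveI : IsRegularLocalRing (Bq ⧸ (maximalIdeal Ap).map (algebraMap Ap Bq)) :=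
    IsRegularLocalRing.of_ringEquiv (R := EGA4.FibLocRing A B q) (Ideal.quotEquivOfEq hI.symm)
  haveI : Algebra.EssFiniteType A Bq := Algebra.EssFiniteType.comp A B Bq
  haveI : Algebra.EssFiniteType A (ResidueField Bq) :=
    haveI : Algebra.EssFiniteType Bq (ResidueField Bq) := by
      haveI : Algebra.FiniteType Bq (ResidueField Bq) :=
        Algebra.FiniteType.of_surjective (Algebra.ofId Bq (ResidueField Bq)) residue_surjective
      infer_instance
    Algebra.EssFiniteType.comp A Bq (ResidueField Bq)
  haveI : Algebra.EssFiniteType Ap (ResidueField Bq) := Algebra.EssFiniteType.of_comp A Ap (ResidueField Bq)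
  haveI : Algebra.EssFiniteType (ResidueField Ap) (ResidueField Bq) :=
    Algebra.EssFiniteType.of_comp Ap (ResidueField Ap) (ResidueField Bq)
  exact depth_purity_of_adicFormallySmooth (A := Ap) (B := Bq)
    (isAdicFormallySmooth_of_formallySmooth Ap Bq _) hA
    (hdim.trans_eq (ringKrullDim_eq_of_ringEquiv (Ideal.quotEquivOfEq hI.symm)))

omit A B in
/-- Purity at points of a smooth scheme over points of depth two, off the generic points of fibres. -/
theorem depth_purity_stalk {X S : Scheme.{u}} [IsLocallyNoetherian S] (f : X ⟶ S) [Smooth f] (x : X)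
    (hs : (2 : ℕ∞) ≤ LocCoh.depth (S.presheaf.stalk (f x)) (S.presheaf.stalk (f x)))
    (hd : (1 : WithBot ℕ∞) ≤ ringKrullDim ((f.fiber (f x)).presheaf.stalk (f.asFiber x))) :
    (2 : ℕ∞) ≤ LocCoh.depth (X.presheaf.stalk x) (X.presheaf.stalk x) ∧
      FEt.PurityHolds (X.presheaf.stalk x) := by
  haveI : IsLocallyNoetherian X := LocallyOfFiniteType.isLocallyNoetherian f
  obtain ⟨A, B, _, _, _, _, hA, q, _, eY, eX, h⟩ := GeomProp.exists_local_model f x
    (GeomProp.mem_smoothLocus_of_nhd f x ⟨⊤, trivial, inferInstance⟩)
  haveI := hA inferInstance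
  haveI : IsNoetherianRing B := Algebra.FiniteType.isNoetherianRing A B
  let p := q.comap (algebraMap A B)
  letI := (f.stalkMap x).hom.toAlgebra
  obtain ⟨E⟩ := CMFlat.nonempty_fiberStalk_equiv f x
  have h2 : eX.toRingHom.comp (f.stalkMap x).hom =
      (Localization.localRingHom p q (algebraMap A B) rfl).comp eY.toRingHom := RingHom.ext h
  have h3 : (maximalIdeal (S.presheaf.stalk (f x))).map eY.toRingHom = maximalIdeal (Localization.AtPrime p) :=
    IsLocalRing.map_ringEquiv_maximalIdeal eY
  have h4 : (Localization.localRingHom p q (algebraMap A B) rfl).comp (algebraMap A (Localization.AtPrime p)) =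
      algebraMap A (Localization.AtPrime q) := RingHom.ext fun a => by
    rw [RingHom.comp_apply, Localization.localRingHom_to_map, ← IsScalarTower.algebraMap_apply]
  have hmap : p.map (algebraMap A (Localization.AtPrime q)) =
      ((maximalIdeal (S.presheaf.stalk (f x))).map (f.stalkMap x).hom).map eX.toRingHom := by
    rw [Ideal.map_map, h2, ← Ideal.map_map, h3, ← Localization.AtPrime.map_eq_maximalIdeal, Ideal.map_map, h4]
  obtain ⟨h3', hP⟩ := depth_purity_atPrime A B q (hs.trans_eq (FlatDepth.depth_ringEquiv eY)) (hd.trans_eq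
    ((ringKrullDim_eq_of_ringEquiv E).symm.trans (ringKrullDim_eq_of_ringEquiv (Ideal.quotientEquiv _ _ eX hmap))))
  refine ⟨?_, LefEssSurj.purityHolds_congr eX hP⟩
  rw [FlatDepth.depth_ringEquiv eX]
  exact (show (2 : ℕ∞) ≤ 3 by norm_num).trans h3'

end Groth.Agent.PurFS
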